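import Groth.Prelude.Def_W4c5modbuncurvesppStab
import Mathlib.Tactic

/-!
# Reduction of the stability inequalities to elementary vertex sets
-/

universe u

open Finset

namespace Groth.Agent.PhiStabLib

open PhiStab

variable {V E : Type u} [Fintype V] [Fintype E] [DecidableEq V] [DecidableEq E]
variable {ends : E → V × V}

/-- The margin in the stability inequality. -/
noncomputable def margin (ends : E → V × V) (φ : V → ℝ) (m : V → ℤ) (N : Finset E) (S : Finset V) : ℝ :=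
  (degOn ends m N S : ℝ) + (LabGraph.cut ends S : ℝ) / 2 - ∑ v ∈ S, φ v

omit [Fintype V] [DecidableEq E] in
theorem exists_split {S : Finset V} (hne : S.Nonempty) (h : ¬ LabGraph.Connected (indEnds ends S)) :
    ∃ A B : Finset V, A.Nonempty ∧ B.Nonempty ∧ Disjoint A B ∧ A ∪ B = S ∧
      ∀ e : E, ¬ (((ends e).1 ∈ A ∧ (ends e).2 ∈ B) ∨ ((ends e).1 ∈ B ∧ (ends e).2 ∈ A)) := by
  classical
  obtain ⟨a, ha⟩ := hne
  simp only [LabGraph.Connected, not_and, not_forall] at h
  obtain ⟨x, y, hxy⟩ := h ⟨⟨a, ha⟩⟩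
  let Q : V → Prop := fun v => ∃ hv : v ∈ S, Relation.ReflTransGen (LabGraph.Adj (indEnds ends S)) x ⟨v, hv⟩
  refine ⟨S.filter Q, S.filter (fun v => ¬ Q v), ⟨x.1, mem_filter.mpr ⟨x.2, x.2, .refl⟩⟩,
    ⟨y.1, mem_filter.mpr ⟨y.2, fun ⟨_, hy⟩ => hxy hy⟩⟩, disjoint_filter_filter_not S S Q,
    filter_union_filter_not_eq Q S, fun e he => ?_⟩
  simp only [mem_filter] at he
  rcases he with ⟨⟨h1, hv, hQ⟩, ⟨h2, hn⟩⟩ | ⟨⟨h1, hn⟩, ⟨h2, hv, hQ⟩⟩
  · exact hn ⟨h2, hQ.tail ⟨⟨e, mem_filter.mpr ⟨mem_univ e, h1, h2⟩⟩, Or.inl rfl⟩⟩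
  · exact hn ⟨h1, hQ.tail ⟨⟨e, mem_filter.mpr ⟨mem_univ e, h1, h2⟩⟩, Or.inr rfl⟩⟩

omit [DecidableEq E] in
theorem cut_pos (hc : LabGraph.Connected ends) {S : Finset V} (h1 : S.Nonempty) (h2 : S ≠ univ) :
    0 < LabGraph.cut ends S := by
  obtain ⟨a, ha⟩ := h1
  obtain ⟨b, hb⟩ : ∃ b, b ∉ S := by
    by_contra h
    exact h2 (eq_univ_of_forall fun b => not_not.mp fun hb => h ⟨b, hb⟩)
  rw [LabGraph.cut, Finset.card_pos]
  by_contra hnone
  rw [not_nonempty_iff_eq_empty, filter_eq_empty_iff] at hnone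
  have : ∀ w, Relation.ReflTransGen (LabGraph.Adj ends) a w → w ∈ S := by
    intro w hw
    induction hw with
    | refl => exact ha
    | @tail y z _ h ih =>
      obtain ⟨e, he⟩ := h
      by_contra hz
      refine hnone (mem_univ e) ?_
      rcases he with he | he <;> simp [he, ih, hz]
  exact hb (this b (hc.2 a b))

omit [DecidableEq E] in
theorem cut_eq_sum (S : Finset V) : LabGraph.cut ends S =
    ∑ e, if ((ends e).1 ∈ S ∧ (ends e).2 ∉ S) ∨ ((ends e).1 ∉ S ∧ (ends e).2 ∈ S) then 1 else 0 := by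
  rw [LabGraph.cut, card_filter]

theorem inner_card_eq_sum (N : Finset E) (S : Finset V) : (N ∩ inner ends S).card =
    ∑ e ∈ N, if (ends e).1 ∈ S ∧ (ends e).2 ∈ S then 1 else 0 := by
  rw [← card_filter]
  congr 1
  ext e
  simp [PhiStab.inner]

theorem margin_union (φ : V → ℝ) (m : V → ℤ) (N : Finset E) {A B : Finset V} (hd : Disjoint A B)
    (hno : ∀ e : E, ¬ (((ends e).1 ∈ A ∧ (ends e).2 ∈ B) ∨ ((ends e).1 ∈ B ∧ (ends e).2 ∈ A))) :
    LabGraph.cut ends A + LabGraph.cut ends B = LabGraph.cut ends (A ∪ B) ∧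
    margin ends φ m N A + margin ends φ m N B = margin ends φ m N (A ∪ B) := by
  have hAB : ∀ v, v ∈ A → v ∉ B := fun v hv => disjoint_left.mp hd hv
  have hc : LabGraph.cut ends A + LabGraph.cut ends B = LabGraph.cut ends (A ∪ B) := by
    simp only [cut_eq_sum, ← sum_add_distrib]
    refine sum_congr rfl fun e _ => ?_
    have := hno e; have := hAB (ends e).1; have := hAB (ends e).2
    by_cases a1 : (ends e).1 ∈ A <;> by_cases a2 : (ends e).2 ∈ A <;> by_cases b1 : (ends e).1 ∈ B <;>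
      by_cases b2 : (ends e).2 ∈ B <;> simp_all
  have hi : (N ∩ inner ends A).card + (N ∩ inner ends B).card = (N ∩ inner ends (A ∪ B)).card := by
    simp only [inner_card_eq_sum, ← sum_add_distrib]
    refine sum_congr rfl fun e _ => ?_
    have := hno e; have := hAB (ends e).1; have := hAB (ends e).2
    by_cases a1 : (ends e).1 ∈ A <;> by_cases a2 : (ends e).2 ∈ A <;> by_cases b1 : (ends e).1 ∈ B <;>
      by_cases b2 : (ends e).2 ∈ B <;> simp_all
  refine ⟨hc, ?_⟩
  simp only [margin, degOn, ← hc, ← hi, sum_union hd]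
  push_cast
  ring

theorem margin_compl_split (φ : V → ℝ) (m : V → ℤ) (N : Finset E)
    (hdeg : (∑ v : V, φ v) = (totDeg m N : ℝ)) {S A B : Finset V} (hd : Disjoint A B) (hu : A ∪ B = Sᶜ)
    (hno : ∀ e : E, ¬ (((ends e).1 ∈ A ∧ (ends e).2 ∈ B) ∨ ((ends e).1 ∈ B ∧ (ends e).2 ∈ A))) :
    LabGraph.cut ends (S ∪ A) + LabGraph.cut ends (S ∪ B) = LabGraph.cut ends S ∧
    margin ends φ m N (S ∪ A) + margin ends φ m N (S ∪ B) = margin ends φ m N S := by
  have hSA : Disjoint S A := disjoint_right.mpr fun v hv => mem_compl.mp (hu ▸ mem_union_left B hv)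
  have hSB : Disjoint S B := disjoint_right.mpr fun v hv => mem_compl.mp (hu ▸ mem_union_right A hv)
  have htri : ∀ v, (v ∈ S ∧ v ∉ A ∧ v ∉ B) ∨ (v ∉ S ∧ v ∈ A ∧ v ∉ B) ∨ (v ∉ S ∧ v ∉ A ∧ v ∈ B) := by
    intro v
    by_cases hS : v ∈ S
    · exact Or.inl ⟨hS, disjoint_left.mp hSA hS, disjoint_left.mp hSB hS⟩
    · rcases mem_union.mp (hu.symm ▸ mem_compl.mpr hS : v ∈ A ∪ B) with h | h
      · exact Or.inr (Or.inl ⟨hS, h, disjoint_left.mp hd h⟩)
      · exact Or.inr (Or.inr ⟨hS, disjoint_right.mp hd h, h⟩)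
  have hc : LabGraph.cut ends (S ∪ A) + LabGraph.cut ends (S ∪ B) = LabGraph.cut ends S := by
    simp only [cut_eq_sum, ← sum_add_distrib]
    refine sum_congr rfl fun e _ => ?_
    have := hno e
    rcases htri (ends e).1 with ⟨a1, a2, a3⟩ | ⟨a1, a2, a3⟩ | ⟨a1, a2, a3⟩ <;>
      rcases htri (ends e).2 with ⟨b1, b2, b3⟩ | ⟨b1, b2, b3⟩ | ⟨b1, b2, b3⟩ <;> simp_all
  have hi : (N ∩ inner ends (S ∪ A)).card + (N ∩ inner ends (S ∪ B)).card =
      (N ∩ inner ends S).card + N.card := by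
    rw [inner_card_eq_sum, inner_card_eq_sum, inner_card_eq_sum, card_eq_sum_ones N, ← sum_add_distrib,
      ← sum_add_distrib]
    refine sum_congr rfl fun e _ => ?_
    have := hno e
    rcases htri (ends e).1 with ⟨a1, a2, a3⟩ | ⟨a1, a2, a3⟩ | ⟨a1, a2, a3⟩ <;>
      rcases htri (ends e).2 with ⟨b1, b2, b3⟩ | ⟨b1, b2, b3⟩ | ⟨b1, b2, b3⟩ <;> simp_all
  refine ⟨hc, ?_⟩
  have hi' : ((N ∩ inner ends (S ∪ A)).card : ℝ) + ((N ∩ inner ends (S ∪ B)).card : ℝ) =
      ((N ∩ inner ends S).card : ℝ) + (N.card : ℝ) := by exact_mod_cast hi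
  have hφ : (∑ v ∈ S, φ v) + (∑ v ∈ A, φ v) + (∑ v ∈ B, φ v) = ∑ v, φ v := by
    rw [← sum_add_sum_compl S φ, ← hu, sum_union hd]; ring
  have hm : (∑ v ∈ S, (m v : ℝ)) + (∑ v ∈ A, (m v : ℝ)) + (∑ v ∈ B, (m v : ℝ)) = ∑ v, (m v : ℝ) := by
    rw [← sum_add_sum_compl S (fun v => (m v : ℝ)), ← hu, sum_union hd]; ring
  have hc' : (LabGraph.cut ends (S ∪ A) : ℝ) + LabGraph.cut ends (S ∪ B) = LabGraph.cut ends S := by
    exact_mod_cast hc
  simp only [totDeg, Int.cast_add, Int.cast_sum, Int.cast_natCast] at hdeg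
  simp only [margin, degOn, Int.cast_add, Int.cast_sum, Int.cast_natCast, sum_union hSA, sum_union hSB]
  linarith

omit [Fintype E] [DecidableEq E] in
theorem elementary_nonempty [Fintype E] {S : Finset V} (h : IsElementary ends S) : S.Nonempty ∧ S ≠ univ := by
  obtain ⟨⟨⟨a, ha⟩⟩, -⟩ := h.1
  obtain ⟨⟨⟨b, hb⟩⟩, -⟩ := h.2
  exact ⟨⟨a, ha⟩, fun he => mem_compl.mp hb (he ▸ mem_univ b)⟩

/-- A property of margins closed under addition holds for all proper sets as soon as it does for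
elementary ones. -/
theorem margin_induction (hc : LabGraph.Connected ends) (φ : V → ℝ) (m : V → ℤ) (N : Finset E)
    (hdeg : (∑ v : V, φ v) = (totDeg m N : ℝ)) (P : ℝ → Prop) (hadd : ∀ a b, P a → P b → P (a + b))
    (h : ∀ S, IsElementary ends S → P (margin ends φ m N S)) :
    ∀ S : Finset V, S.Nonempty → S ≠ univ → P (margin ends φ m N S) := by
  suffices H : ∀ (n : ℕ) (S : Finset V), LabGraph.cut ends S = n → S.Nonempty → S ≠ univ →
      P (margin ends φ m N S) from fun S => H _ S rfl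
  intro n
  induction n using Nat.strong_induction_on with
  | _ n ih =>
    intro S hn h1 h2
    have hS' : Sᶜ.Nonempty := by
      rw [nonempty_iff_ne_empty, Ne, compl_eq_empty_iff]
      exact h2
    by_cases c1 : LabGraph.Connected (indEnds ends S)
    · by_cases c2 : LabGraph.Connected (indEnds ends Sᶜ)
      · exact h S ⟨c1, c2⟩
      · obtain ⟨A, B, hA, hB, hd, hu, hno⟩ := exists_split hS' c2
        obtain ⟨hcut, hm⟩ := margin_compl_split φ m N hdeg hd hu hno
        have hA1 : S ∪ A ≠ univ := by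
          obtain ⟨b, hb⟩ := hB
          intro he
          rcases mem_union.mp (he ▸ mem_univ b) with h | h
          · exact mem_compl.mp (hu ▸ mem_union_right A hb) h
          · exact disjoint_right.mp hd hb h
        have hB1 : S ∪ B ≠ univ := by
          obtain ⟨a, ha⟩ := hA
          intro he
          rcases mem_union.mp (he ▸ mem_univ a) with h | h
          · exact mem_compl.mp (hu ▸ mem_union_left B ha) h
          · exact disjoint_left.mp hd ha h
        have p1 := cut_pos hc (h1.mono subset_union_left) hA1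
        have p2 := cut_pos hc (h1.mono subset_union_left) hB1
        rw [← hm]
        exact hadd _ _ (ih _ (by omega) _ rfl (h1.mono subset_union_left) hA1)
          (ih _ (by omega) _ rfl (h1.mono subset_union_left) hB1)
    · obtain ⟨A, B, hA, hB, hd, hu, hno⟩ := exists_split h1 c1
      obtain ⟨hcut, hm⟩ := margin_union φ m N hd hno
      have hA1 : A ≠ univ := fun he => h2 (univ_subset_iff.mp (he ▸ hu ▸ subset_union_left))
      have hB1 : B ≠ univ := fun he => h2 (univ_subset_iff.mp (he ▸ hu ▸ subset_union_right))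
      have p1 := cut_pos hc hA hA1
      have p2 := cut_pos hc hB hB1
      rw [hu] at hm hcut
      rw [← hm]
      exact hadd _ _ (ih _ (by omega) _ rfl hA hA1) (ih _ (by omega) _ rfl hB hB1)

end Groth.Agent.PhiStabLib
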