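import Groth.Prelude.Def_W4c5modbuncurvesppStab
import Groth.Agent.LabGraph6.Cycles

/-!
# Side sums on a tree
-/

universe u

open Finset

namespace Groth.Agent.PhiStabLib

open PhiStab Groth.Agent.LabGraph6

variable {V E : Type u} [Fintype V] [Fintype E] [DecidableEq V] [DecidableEq E]
variable {ends : E → V × V}

omit [Fintype V] [DecidableEq V] in
theorem reach_iff_span (T : Finset E) (x y : V) :
    Reach ends T x y ↔ Relation.ReflTransGen (LabGraph.Adj (spanEnds ends T)) x y := by
  have h : Adj' ends T = LabGraph.Adj (spanEnds ends T) := by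
    funext a b
    refine propext ⟨fun ⟨e, he, h⟩ => ⟨⟨e, he⟩, h⟩, fun ⟨e, h⟩ => ⟨e.1, e.2, h⟩⟩
  rw [Reach, h]

omit [DecidableEq V] in
theorem mem_side {e : E} {v : V} : v ∈ side ends e ↔ Reach ends (univ.erase e) (ends e).1 v := by
  rw [reach_iff_span]; simp [side]

omit [DecidableEq V] in
theorem side_closed (e f : E) (hf : f ≠ e) :
    (ends f).1 ∈ side ends e ↔ (ends f).2 ∈ side ends e := by
  rw [mem_side, mem_side]
  exact ⟨fun h => h.tail ⟨f, mem_erase.mpr ⟨hf, mem_univ f⟩, Or.inl rfl⟩,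
    fun h => h.tail ⟨f, mem_erase.mpr ⟨hf, mem_univ f⟩, Or.inr rfl⟩⟩

theorem snd_notMem_side (hF : DualGr.IsForest ends) (e : E) : (ends e).2 ∉ side ends e := by
  intro h
  obtain ⟨C, -, -, hC⟩ := exists_circuit_of_reach (mem_univ e) (mem_side.mp h)
  exact hF C hC

/-- Indicator of a side. -/
noncomputable def sideInd (ends : E → V × V) (e : E) (v : V) : ℝ := if v ∈ side ends e then 1 else 0

theorem sideInd_diff (hF : DualGr.IsForest ends) (e f : E) :
    sideInd ends e (ends f).1 - sideInd ends e (ends f).2 = if f = e then 1 else 0 := by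
  unfold sideInd
  by_cases h : f = e
  · subst h
    rw [if_pos (mem_side.mpr .refl), if_neg (snd_notMem_side hF f), if_pos rfl, sub_zero]
  · rw [if_neg h]
    by_cases h1 : (ends f).1 ∈ side ends e
    · rw [if_pos h1, if_pos ((side_closed e f h).mp h1), sub_self]
    · rw [if_neg h1, if_neg (mt (side_closed e f h).mpr h1), sub_self]

omit [DecidableEq V] [DecidableEq E] [Fintype E] [Fintype V] in
theorem const_of_diff_zero (hc : LabGraph.Connected ends) (g : V → ℝ)
    (hg : ∀ e, g (ends e).1 = g (ends e).2) (v w : V) : g v = g w := by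
  induction hc.2 v w with
  | refl => rfl
  | tail _ h ih =>
    obtain ⟨e, he | he⟩ := h
    · rw [ih]; simpa [he] using hg e
    · rw [ih]; simpa [he] using (hg e).symm

theorem sum_side (e : E) (φ : V → ℝ) : ∑ v ∈ side ends e, φ v = ∑ v, sideInd ends e v * φ v := by
  classical
  simp [sideInd, ite_mul, Finset.sum_ite_mem]

theorem eq_of_side_sums (hT : DualGr.IsTree ends) (φ ψ : V → ℝ)
    (h : ∀ e : E, ∑ v ∈ side ends e, φ v = ∑ v ∈ side ends e, ψ v) (h0 : ∑ v, φ v = ∑ v, ψ v) : φ = ψ := by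
  funext u
  let g : V → ℝ := fun v => (if v = u then 1 else 0) -
    ∑ e, ((if (ends e).1 = u then 1 else 0) - (if (ends e).2 = u then 1 else 0)) * sideInd ends e v
  obtain ⟨v₀⟩ := hT.1.1
  have hg : ∀ v, g v = g v₀ := fun v => const_of_diff_zero hT.1 g (fun f => by
    rw [← sub_eq_zero]
    simp only [g, sub_sub_sub_comm, ← Finset.sum_sub_distrib, ← mul_sub, sideInd_diff hT.2]
    simp) v v₀
  have key : ∀ χ : V → ℝ, χ u = g v₀ * ∑ v, χ v +
      ∑ e, ((if (ends e).1 = u then 1 else 0) - (if (ends e).2 = u then 1 else 0)) * ∑ v ∈ side ends e, χ v := by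
    intro χ
    have h1 : ∀ v, (if v = u then χ v else 0) = g v₀ * χ v +
        ∑ e, ((if (ends e).1 = u then 1 else 0) - (if (ends e).2 = u then 1 else 0)) * (sideInd ends e v * χ v) := by
      intro v
      rw [← hg v]
      simp only [g, sub_mul _ _ (χ v), Finset.sum_mul, mul_assoc, ite_mul, one_mul, zero_mul]
      ring
    have h2 := Finset.sum_congr (s₁ := (univ : Finset V)) rfl fun v _ => h1 v
    rw [Finset.sum_ite_eq' univ u χ, if_pos (mem_univ u), Finset.sum_add_distrib, ← Finset.mul_sum,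
      Finset.sum_comm] at h2
    simp only [sum_side, Finset.mul_sum]
    rw [h2, Finset.mul_sum]
  rw [key φ, key ψ, h0]
  simp only [h]

theorem exists_side_sums (hT : DualGr.IsTree ends) (c : E → ℝ) (c₀ : ℝ) :
    ∃ φ : V → ℝ, (∀ e : E, ∑ v ∈ side ends e, φ v = c e) ∧ ∑ v, φ v = c₀ := by
  classical
  obtain ⟨v₀⟩ := hT.1.1
  let x : E → ℝ := fun e => c e - c₀ * sideInd ends e v₀
  let φ : V → ℝ := fun v => c₀ * (if v = v₀ then 1 else 0) +
    ∑ e, x e * ((if (ends e).1 = v then 1 else 0) - (if (ends e).2 = v then 1 else 0))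
  have key : ∀ s : V → ℝ, ∑ v, s v * φ v = c₀ * s v₀ + ∑ e, x e * (s (ends e).1 - s (ends e).2) := by
    intro s
    simp only [φ, mul_add, Finset.sum_add_distrib, Finset.mul_sum]
    congr 1
    · rw [Finset.sum_eq_single v₀ (fun v _ hv => by simp [hv]) (fun h => absurd (mem_univ _) h), if_pos rfl]
      ring
    · rw [Finset.sum_comm]
      refine Finset.sum_congr rfl fun e _ => ?_
      simp only [mul_sub, mul_ite, mul_one, mul_zero, Finset.sum_sub_distrib, Finset.sum_ite_eq, mem_univ, if_true]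
      ring
  refine ⟨φ, fun f => ?_, ?_⟩
  · rw [sum_side, key]
    simp only [sideInd_diff hT.2, mul_ite, mul_one, mul_zero, Finset.sum_ite_eq', mem_univ, if_true, x]
    ring
  · simpa using key (fun _ => 1)

end Groth.Agent.PhiStabLib
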