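import Groth.Agent.PhiStabLib.Elementary
import Groth.Agent.PhiStabLib.Tree

/-!
# Stable data on spanning trees and the stability polytope
-/

universe u

open Finset

namespace Groth.Agent.PhiStabLib

open PhiStab Groth.Agent.LabGraph6

variable {V E : Type u} [Fintype V] [Fintype E] [DecidableEq V] [DecidableEq E]
variable {ends : E → V × V}

theorem exists_int_side_sums (hT : DualGr.IsTree ends) (c : E → ℤ) (c₀ : ℤ) :
    ∃ m : V → ℤ, (∀ e : E, ∑ v ∈ side ends e, (m v : ℝ) = c e) ∧ ∑ v, (m v : ℝ) = c₀ := by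
  classical
  obtain ⟨v₀⟩ := hT.1.1
  let x : E → ℤ := fun e => c e - c₀ * (if v₀ ∈ side ends e then 1 else 0)
  let m : V → ℤ := fun v => c₀ * (if v = v₀ then 1 else 0) +
    ∑ e, x e * ((if (ends e).1 = v then 1 else 0) - (if (ends e).2 = v then 1 else 0))
  have key : ∀ s : V → ℝ, ∑ v, s v * (m v : ℝ) =
      (c₀ : ℝ) * s v₀ + ∑ e, (x e : ℝ) * (s (ends e).1 - s (ends e).2) := by
    intro s
    simp only [m, Int.cast_add, Int.cast_mul, Int.cast_sum, Int.cast_sub, Int.cast_ite, Int.cast_one,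
      Int.cast_zero, mul_add, Finset.sum_add_distrib, Finset.mul_sum]
    congr 1
    · rw [Finset.sum_eq_single v₀ (fun v _ hv => by simp [hv]) (fun h => absurd (mem_univ _) h), if_pos rfl]
      ring
    · rw [Finset.sum_comm]
      refine Finset.sum_congr rfl fun e _ => ?_
      simp only [mul_sub, mul_ite, mul_one, mul_zero, Finset.sum_sub_distrib, Finset.sum_ite_eq, mem_univ, if_true]
      ring
  refine ⟨m, fun f => ?_, ?_⟩
  · rw [sum_side, key]
    simp only [sideInd_diff hT.2, mul_ite, mul_one, mul_zero, Finset.sum_ite_eq', mem_univ, if_true, x,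
      Int.cast_sub, Int.cast_mul, Int.cast_ite, Int.cast_one, Int.cast_zero]
    unfold sideInd
    split_ifs <;> simp
  · simpa using key (fun _ => 1)

/-- An elementary set in a tree is a side of the unique edge leaving it. -/
theorem elementary_tree (hT : DualGr.IsTree ends) {S : Finset V} (hS : IsElementary ends S) :
    ∃ e : E, S = side ends e ∨ S = (side ends e)ᶜ := by
  classical
  obtain ⟨h1, h2⟩ := elementary_nonempty hS
  obtain ⟨e, he⟩ := Finset.card_pos.1 (cut_pos hT.1 h1 h2)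
  simp only [mem_filter, mem_univ, true_and] at he
  have hreach : ∀ A : Finset V, LabGraph.Connected (indEnds ends A) →
      ¬ ((ends e).1 ∈ A ∧ (ends e).2 ∈ A) → ∀ x ∈ A, ∀ y ∈ A, Reach ends (univ.erase e) x y := by
    intro A hA hnot x hx y hy
    have : ∀ w, Relation.ReflTransGen (LabGraph.Adj (indEnds ends A)) ⟨x, hx⟩ w →
        Reach ends (univ.erase e) x w.1 := by
      intro w hw
      induction hw with
      | refl => exact .refl
      | tail _ h ih =>
        obtain ⟨⟨f, hf⟩, hf'⟩ := h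
        have hne : f ≠ e := fun hfe => hnot (hfe ▸ (mem_filter.1 hf).2)
        refine ih.tail ⟨f, mem_erase.2 ⟨hne, mem_univ f⟩, ?_⟩
        rcases hf' with hf' | hf'
        · exact Or.inl (congrArg (fun z => (z.1.1, z.2.1)) hf')
        · exact Or.inr (congrArg (fun z => (z.1.1, z.2.1)) hf')
    exact this ⟨y, hy⟩ (hA.2 _ _)
  refine ⟨e, ?_⟩
  have hn := snd_notMem_side hT.2 e
  rcases he with ⟨ha, hb⟩ | ⟨ha, hb⟩
  · left
    ext v
    rw [mem_side]
    constructor
    · exact fun hv => hreach S hS.1 (fun h => hb h.2) _ ha _ hv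
    · intro hv
      by_contra hvS
      exact hn (mem_side.2 (hv.trans
        (hreach Sᶜ hS.2 (fun h => mem_compl.1 h.1 ha) _ (mem_compl.2 hvS) _ (mem_compl.2 hb))))
  · right
    ext v
    rw [mem_compl, mem_side]
    constructor
    · intro hv hv'
      exact hn (mem_side.2 (hv'.trans (hreach S hS.1 (fun h => ha h.1) _ hv _ hb)))
    · intro hv
      by_contra hvS
      exact hv (hreach Sᶜ hS.2 (fun h => mem_compl.1 h.2 hb) _ (mem_compl.2 ha) _ (mem_compl.2 hvS))

theorem cut_compl (S : Finset V) : LabGraph.cut ends Sᶜ = LabGraph.cut ends S := by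
  simp only [cut_eq_sum, mem_compl, not_not]
  exact sum_congr rfl fun e _ => by split_ifs <;> tauto

theorem cut_side (hF : DualGr.IsForest ends) (e : E) : LabGraph.cut ends (side ends e) = 1 := by
  rw [cut_eq_sum, Finset.sum_eq_single e]
  · rw [if_pos]
    exact Or.inl ⟨mem_side.mpr .refl, snd_notMem_side hF e⟩
  · intro f _ hf
    rw [if_neg]
    rintro (⟨h, h'⟩ | ⟨h, h'⟩)
    · exact h' ((side_closed e f hf).1 h)
    · exact h ((side_closed e f hf).2 h')
  · exact fun h => absurd (mem_univ e) h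

/-- The weighting of the spanning tree obtained by distributing the removed edges to their endpoints. -/
noncomputable def shift (ends : E → V × V) (T : Finset E) (φ : V → ℝ) (v : V) : ℝ :=
  φ v - (∑ e ∈ Tᶜ, ((if (ends e).1 = v then (1 : ℝ) else 0) + (if (ends e).2 = v then 1 else 0))) / 2

omit [Fintype V] in
theorem sum_shift (T : Finset E) (φ : V → ℝ) (S : Finset V) : ∑ v ∈ S, shift ends T φ v =
    (∑ v ∈ S, φ v) -
      (∑ e ∈ Tᶜ, ((if (ends e).1 ∈ S then (1 : ℝ) else 0) + (if (ends e).2 ∈ S then 1 else 0))) / 2 := by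
  simp only [shift, Finset.sum_sub_distrib, ← Finset.sum_div]
  rw [Finset.sum_comm]
  simp only [Finset.sum_add_distrib, Finset.sum_ite_eq]

theorem cut_split (T : Finset E) (S : Finset V) : (LabGraph.cut ends S : ℝ) =
    (LabGraph.cut (spanEnds ends T) S : ℝ) +
      ∑ e ∈ Tᶜ, (if ((ends e).1 ∈ S ∧ (ends e).2 ∉ S) ∨ ((ends e).1 ∉ S ∧ (ends e).2 ∈ S) then (1 : ℝ) else 0) := by
  rw [cut_eq_sum (ends := ends), ← Finset.sum_add_sum_compl T, cut_eq_sum (ends := spanEnds ends T),
    ← Finset.sum_coe_sort T]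
  push_cast
  rfl

theorem margin_tree (T : Finset E) (φ : V → ℝ) (m : V → ℤ) (S : Finset V) :
    margin ends φ m Tᶜ S = margin (spanEnds ends T) (shift ends T φ) m ∅ S := by
  simp only [margin, degOn, Finset.empty_inter, Finset.card_empty, sum_shift, cut_split (ends := ends) T S]
  push_cast
  rw [show ((Tᶜ ∩ inner ends S).card : ℝ) = ∑ e ∈ Tᶜ, if (ends e).1 ∈ S ∧ (ends e).2 ∈ S then (1 : ℝ) else 0 by
    rw [inner_card_eq_sum]; push_cast; rfl]
  have h : ∀ e, (if (ends e).1 ∈ S ∧ (ends e).2 ∈ S then (1 : ℝ) else 0) +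
      (if ((ends e).1 ∈ S ∧ (ends e).2 ∉ S) ∨ ((ends e).1 ∉ S ∧ (ends e).2 ∈ S) then (1 : ℝ) else 0) / 2 =
      ((if (ends e).1 ∈ S then (1 : ℝ) else 0) + (if (ends e).2 ∈ S then 1 else 0)) / 2 := by
    intro e
    by_cases a1 : (ends e).1 ∈ S <;> by_cases a2 : (ends e).2 ∈ S <;> simp [a1, a2]
  have h' := Finset.sum_congr (s₁ := Tᶜ) rfl fun e _ => h e
  rw [Finset.sum_add_distrib, ← Finset.sum_div, ← Finset.sum_div] at h'
  linarith

theorem totDeg_tree (T : Finset E) (φ : V → ℝ) (m : V → ℤ) (h : (∑ v, φ v) = (totDeg m Tᶜ : ℝ)) :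
    (∑ v, shift ends T φ v) = (totDeg m (∅ : Finset {e : E // e ∈ T}) : ℝ) := by
  rw [sum_shift, h]
  simp [totDeg, Finset.sum_add_distrib]

/-- Adding margins of a set and of its complement. -/
theorem margin_compl (φ : V → ℝ) (m : V → ℤ) (N : Finset E) (hdeg : (∑ v, φ v) = (totDeg m N : ℝ))
    (S : Finset V) : margin ends φ m N S + margin ends φ m N Sᶜ =
      ∑ e, (if ((ends e).1 ∈ S ∧ (ends e).2 ∉ S) ∨ ((ends e).1 ∉ S ∧ (ends e).2 ∈ S) then
        (if e ∈ N then (0 : ℝ) else 1) else 0) := by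
  have hi : ((N ∩ inner ends S).card : ℝ) + (N ∩ inner ends Sᶜ).card +
      ∑ e ∈ N, (if ((ends e).1 ∈ S ∧ (ends e).2 ∉ S) ∨ ((ends e).1 ∉ S ∧ (ends e).2 ∈ S) then (1 : ℝ) else 0) =
      N.card := by
    simp only [inner_card_eq_sum, Nat.cast_sum, Nat.cast_ite, Nat.cast_one, Nat.cast_zero,
      ← Finset.sum_add_distrib]
    rw [Finset.card_eq_sum_ones, Nat.cast_sum]
    refine sum_congr rfl fun e _ => ?_
    by_cases a1 : (ends e).1 ∈ S <;> by_cases a2 : (ends e).2 ∈ S <;> simp [a1, a2]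
  have hc : (LabGraph.cut ends S : ℝ) =
      ∑ e ∈ N, (if ((ends e).1 ∈ S ∧ (ends e).2 ∉ S) ∨ ((ends e).1 ∉ S ∧ (ends e).2 ∈ S) then (1 : ℝ) else 0) +
      ∑ e, (if ((ends e).1 ∈ S ∧ (ends e).2 ∉ S) ∨ ((ends e).1 ∉ S ∧ (ends e).2 ∈ S) then
        (if e ∈ N then (0 : ℝ) else 1) else 0) := by
    rw [cut_eq_sum, ← Finset.univ_inter N, ← Finset.sum_ite_mem, ← Finset.sum_add_distrib]
    push_cast
    exact sum_congr rfl fun e _ => by split_ifs <;> simp_all
  simp only [totDeg, Int.cast_add, Int.cast_sum, Int.cast_natCast] at hdeg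
  simp only [margin, degOn, Int.cast_add, Int.cast_sum, Int.cast_natCast, cut_compl]
  have h1 := sum_add_sum_compl S φ
  have h2 := sum_add_sum_compl S (fun v => (m v : ℝ))
  linarith

theorem stable_iff_margin (φ : V → ℝ) (m : V → ℤ) (N : Finset E) :
    IsStable ends φ m N ↔ ∀ S : Finset V, S.Nonempty → S ≠ univ → 0 < margin ends φ m N S := by
  refine forall_congr' fun S => forall_congr' fun _ => forall_congr' fun _ => ?_
  simp only [margin]; constructor <;> intro h <;> linarith

theorem semistable_iff_margin (φ : V → ℝ) (m : V → ℤ) (N : Finset E) :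
    IsSemistable ends φ m N ↔ ∀ S : Finset V, S.Nonempty → S ≠ univ → 0 ≤ margin ends φ m N S := by
  refine forall_congr' fun S => forall_congr' fun _ => forall_congr' fun _ => ?_
  simp only [margin]; constructor <;> intro h <;> linarith

theorem existsUnique_stable (T : Finset E) (hT : DualGr.IsTree (spanEnds ends T)) (b : ℤ) (φ : V → ℝ)
    (hφ : (∑ v : V, φ v) = (b : ℝ)) (hnd : Nondegenerate ends φ) :
    ∃! m : V → ℤ, totDeg m Tᶜ = b ∧ IsStable ends φ m Tᶜ := by
  classical
  set ψ := shift ends T φ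
  -- margins on the two sides of an edge of the tree
  have hside : ∀ (m : V → ℤ), totDeg m Tᶜ = b → ∀ e : {e : E // e ∈ T},
      margin ends φ m Tᶜ (side (spanEnds ends T) e) =
        ∑ v ∈ side (spanEnds ends T) e, (m v : ℝ) + 1 / 2 - ∑ v ∈ side (spanEnds ends T) e, ψ v ∧
      margin ends φ m Tᶜ (side (spanEnds ends T) e)ᶜ =
        -(∑ v ∈ side (spanEnds ends T) e, (m v : ℝ)) + 1 / 2 + ∑ v ∈ side (spanEnds ends T) e, ψ v := by
    intro m hm e
    have hd := totDeg_tree (ends := ends) T φ m (by rw [hφ, hm])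
    simp only [totDeg, card_empty, Nat.cast_zero, add_zero, Int.cast_sum] at hd
    rw [margin_tree, margin_tree]
    simp only [margin, degOn, Finset.empty_inter, Finset.card_empty, Nat.cast_zero, add_zero,
      Int.cast_sum, cut_compl, cut_side hT.2, Nat.cast_one]
    refine ⟨rfl, ?_⟩
    have h1 := sum_add_sum_compl (side (spanEnds ends T) e) ψ
    have h2 := sum_add_sum_compl (side (spanEnds ends T) e) (fun v => (m v : ℝ))
    linarith
  have hne : ∀ e, (side (spanEnds ends T) e).Nonempty ∧ side (spanEnds ends T) e ≠ univ ∧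
      (side (spanEnds ends T) e)ᶜ.Nonempty ∧ (side (spanEnds ends T) e)ᶜ ≠ univ := fun e => by
    have h1 : (spanEnds ends T e).1 ∈ side (spanEnds ends T) e := mem_side.mpr .refl
    have h2 := snd_notMem_side hT.2 e
    exact ⟨⟨_, h1⟩, fun h => h2 (h ▸ mem_univ _), ⟨_, mem_compl.2 h2⟩,
      fun h => (mem_compl.1 (h ▸ mem_univ (spanEnds ends T e).1)) h1⟩
  obtain ⟨m, hm1, hm2⟩ := exists_int_side_sums hT
    (fun e => ⌊(∑ v ∈ side (spanEnds ends T) e, ψ v) + 1 / 2⌋) (b - (Tᶜ.card : ℤ))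
  have htot : totDeg m Tᶜ = b := by
    have : ((∑ v, m v : ℤ) : ℝ) = ((b - (Tᶜ.card : ℤ) : ℤ) : ℝ) := by rw [Int.cast_sum]; exact hm2
    have h' : (∑ v, m v) = b - (Tᶜ.card : ℤ) := Int.cast_injective this
    simp only [totDeg, h']; ring
  have hdeg : (∑ v, φ v) = (totDeg m Tᶜ : ℝ) := by rw [hφ, htot]
  have hmar : ∀ S : Finset V, S.Nonempty → S ≠ univ → 0 ≤ margin ends φ m Tᶜ S := by
    intro S h1 h2
    rw [margin_tree]
    refine margin_induction hT.1 ψ m ∅ (totDeg_tree T φ m hdeg) (fun x => 0 ≤ x) (fun a b => add_nonneg)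
      (fun U hU => ?_) S h1 h2
    obtain ⟨e, he⟩ := elementary_tree hT hU
    obtain ⟨e1, e2⟩ := hside m htot e
    rw [← margin_tree]
    have hfl := Int.floor_le ((∑ v ∈ side (spanEnds ends T) e, ψ v) + 1 / 2)
    have hfl' := Int.lt_floor_add_one ((∑ v ∈ side (spanEnds ends T) e, ψ v) + 1 / 2)
    have he' := hm1 e
    rcases he with rfl | rfl
    · rw [e1]; linarith
    · rw [e2]; linarith
  have hstable : IsStable ends φ m Tᶜ := hnd m Tᶜ hdeg ((semistable_iff_margin φ m Tᶜ).2 hmar)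
  refine ⟨m, ⟨htot, hstable⟩, fun m' ⟨htot', hst'⟩ => ?_⟩
  have key : ∀ e, ∑ v ∈ side (spanEnds ends T) e, (m' v : ℝ) = ∑ v ∈ side (spanEnds ends T) e, (m v : ℝ) := by
    intro e
    obtain ⟨n1, n2, n3, n4⟩ := hne e
    obtain ⟨e1, e2⟩ := hside m htot e
    obtain ⟨e1', e2'⟩ := hside m' htot' e
    have a1 := (stable_iff_margin φ m Tᶜ).1 hstable _ n1 n2
    have a2 := (stable_iff_margin φ m Tᶜ).1 hstable _ n3 n4
    have b1 := (stable_iff_margin φ m' Tᶜ).1 hst' _ n1 n2
    have b2 := (stable_iff_margin φ m' Tᶜ).1 hst' _ n3 n4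
    rw [e1] at a1; rw [e2] at a2; rw [e1'] at b1; rw [e2'] at b2
    set s := side (spanEnds ends T) e
    have h1 : ((∑ v ∈ s, m' v : ℤ) : ℝ) < ((∑ v ∈ s, m v + 1 : ℤ) : ℝ) := by push_cast; linarith
    have h2 : ((∑ v ∈ s, m v : ℤ) : ℝ) < ((∑ v ∈ s, m' v + 1 : ℤ) : ℝ) := by push_cast; linarith
    have h1' := Int.cast_lt.1 h1
    have h2' := Int.cast_lt.1 h2
    rw [← Int.cast_sum, ← Int.cast_sum, show (∑ v ∈ s, m' v) = ∑ v ∈ s, m v by omega]
  have heq := eq_of_side_sums hT (fun v => (m' v : ℝ)) (fun v => (m v : ℝ)) key (by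
    rw [← Int.cast_sum, ← Int.cast_sum]
    have : totDeg m' Tᶜ = totDeg m Tᶜ := htot'.trans htot.symm
    simp only [totDeg, add_left_inj] at this
    rw [this])
  funext v
  exact Int.cast_injective (congrFun heq v)

/-- A spanning tree meeting the cut of an elementary set only once. -/
theorem exists_tree_through (hc : LabGraph.Connected ends) {S : Finset V} (hS : IsElementary ends S) :
    ∃ T : Finset E, DualGr.IsTree (spanEnds ends T) ∧
      (∑ e, (if ((ends e).1 ∈ S ∧ (ends e).2 ∉ S) ∨ ((ends e).1 ∉ S ∧ (ends e).2 ∈ S) then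
        (if e ∈ Tᶜ then (0 : ℝ) else 1) else 0)) = 1 := by
  classical
  obtain ⟨n1, n2⟩ := elementary_nonempty hS
  obtain ⟨e₀, he₀⟩ := Finset.card_pos.1 (cut_pos hc n1 n2)
  simp only [mem_filter, mem_univ, true_and] at he₀
  set T₀ := insert e₀ (inner ends S ∪ inner ends Sᶜ)
  -- connectedness through `T₀`
  have hin : ∀ A : Finset V, inner ends A ⊆ T₀ → LabGraph.Connected (indEnds ends A) → ∀ x ∈ A, ∀ y ∈ A,
      Reach ends T₀ x y := by
    intro A hA hcA x hx y hy
    have : ∀ w, Relation.ReflTransGen (LabGraph.Adj (indEnds ends A)) ⟨x, hx⟩ w → Reach ends T₀ x w.1 := by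
      intro w hw
      induction hw with
      | refl => exact .refl
      | tail _ h ih =>
        obtain ⟨⟨f, hf⟩, hf'⟩ := h
        refine ih.tail ⟨f, hA hf, ?_⟩
        rcases hf' with hf' | hf'
        · exact Or.inl (congrArg (fun z => (z.1.1, z.2.1)) hf')
        · exact Or.inr (congrArg (fun z => (z.1.1, z.2.1)) hf')
    exact this ⟨y, hy⟩ (hcA.2 _ _)
  have hA : inner ends S ⊆ T₀ := subset_union_left.trans (subset_insert _ _)
  have hB : inner ends Sᶜ ⊆ T₀ := subset_union_right.trans (subset_insert _ _)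
  obtain ⟨x, y, hx, hy, hxy⟩ : ∃ x y, x ∈ S ∧ y ∉ S ∧ Reach ends T₀ x y := by
    rcases he₀ with ⟨ha, hb⟩ | ⟨ha, hb⟩
    · exact ⟨_, _, ha, hb, Relation.ReflTransGen.single ⟨e₀, mem_insert_self _ _, Or.inl rfl⟩⟩
    · exact ⟨_, _, hb, ha, Relation.ReflTransGen.single ⟨e₀, mem_insert_self _ _, Or.inr rfl⟩⟩
  have hall : ∀ v, Reach ends T₀ x v := fun v => by
    by_cases hv : v ∈ S
    · exact hin S hA hS.1 x hx v hv
    · exact hxy.trans (hin Sᶜ hB hS.2 y (mem_compl.2 hy) v (mem_compl.2 hv))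
  -- a minimal connected subgraph
  let fam := T₀.powerset.filter fun T => ∀ v, Reach ends T x v
  obtain ⟨T, hT, hmin⟩ := fam.exists_min_image Finset.card ⟨T₀, by simp [fam, hall]⟩
  simp only [fam, mem_filter, mem_powerset] at hT hmin
  obtain ⟨hTsub, hTconn⟩ := hT
  refine ⟨T, ⟨⟨⟨x⟩, fun a c => ?_⟩, ?_⟩, ?_⟩
  · exact ((reach_iff_span T x a).1 (hTconn a) |> fun h => by
      have h' : Reach ends T a x := reach_symm ((reach_iff_span T x a).2 h)
      exact (reach_iff_span T a c).1 (h'.trans (hTconn c)))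
  · intro C hC
    obtain ⟨e, he⟩ := hC.1
    have hr := reach_erase_of_even hC.2.1 he
    have hr' : Reach ends (T.erase e.1) (ends e.1).1 (ends e.1).2 := by
      have : ∀ w, Reach (spanEnds ends T) (C.erase e) (spanEnds ends T e).1 w →
          Reach ends (T.erase e.1) (ends e.1).1 w := by
        intro w hw
        induction hw with
        | refl => exact .refl
        | tail _ h ih =>
          obtain ⟨f, hf, h⟩ := h
          exact ih.tail ⟨f.1, mem_erase.2 ⟨fun hh => (mem_erase.1 hf).1 (Subtype.ext hh), f.2⟩, h⟩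
      exact this _ hr
    have hstep : ∀ v, Reach ends T x v → Reach ends (T.erase e.1) x v := by
      intro v hv
      induction hv with
      | refl => exact .refl
      | tail _ h ih =>
        obtain ⟨f, hf, hf'⟩ := h
        by_cases hfe : f = e.1
        · subst hfe
          rcases hf' with hf' | hf'
          · rw [hf'] at hr'; exact ih.trans hr'
          · rw [hf'] at hr'; exact ih.trans (reach_symm hr')
        · exact ih.tail ⟨f, mem_erase.2 ⟨hfe, hf⟩, hf'⟩
    have := hmin (T.erase e.1) ⟨(erase_subset _ _).trans hTsub, fun v => hstep v (hTconn v)⟩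
    exact absurd this (not_le.2 (card_erase_lt_of_mem e.2))
  · have he₀T : e₀ ∈ T := by
      by_contra hn
      have hclosed : ∀ v, Reach ends T x v → v ∈ S := by
        intro v hv
        induction hv with
        | refl => exact hx
        | tail _ h ih =>
          obtain ⟨f, hf, hf'⟩ := h
          have hf0 := hTsub hf
          simp only [T₀, mem_insert, mem_union, PhiStab.inner, mem_filter, mem_univ, true_and, mem_compl] at hf0
          rcases hf0 with rfl | ⟨a, c⟩ | ⟨a, c⟩
          · exact absurd hf hn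
          · rcases hf' with hf' | hf' <;> simp_all
          · rcases hf' with hf' | hf' <;> simp_all
      exact hy (hclosed y (hTconn y))
    rw [Finset.sum_eq_single e₀]
    · rw [if_pos he₀, if_neg (fun h => mem_compl.1 h he₀T)]
    · intro f _ hf
      split_ifs with h1 h2
      · rfl
      · exfalso
        have hf0 := hTsub (not_not.1 (fun h => h2 (mem_compl.2 h)))
        simp only [T₀, mem_insert, mem_union, PhiStab.inner, mem_filter, mem_univ, true_and, mem_compl] at hf0
        tauto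
      · rfl
    · exact fun h => absurd (mem_univ _) h

theorem polytope_iff (hc : LabGraph.Connected ends) (b : ℤ) (φ₁ φ₂ : V → ℝ) (h₁ : (∑ v : V, φ₁ v) = (b : ℝ))
    (h₂ : (∑ v : V, φ₂ v) = (b : ℝ)) (hnd : Nondegenerate ends φ₁) :
    (∀ (m : V → ℤ) (N : Finset E), totDeg m N = b → IsStable ends φ₁ m N → IsSemistable ends φ₂ m N) ↔
      InClosedPolytope ends φ₁ φ₂ := by
  have hell : ∀ (φ : V → ℝ) (m : V → ℤ) (N : Finset E) (S : Finset V),
      margin ends φ m N S = ell ends S (degOn ends m N S) φ := fun φ m N S => by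
    simp only [margin, ell]; ring
  constructor
  · intro h S hS d hd
    obtain ⟨n1, n2⟩ := elementary_nonempty hS
    obtain ⟨T, hT, hone⟩ := exists_tree_through hc hS
    obtain ⟨m, ⟨hm, hst⟩, -⟩ := existsUnique_stable T hT b φ₁ h₁ hnd
    have n3 : Sᶜ.Nonempty := by rw [nonempty_iff_ne_empty, Ne, compl_eq_empty_iff]; exact n2
    have n4 : Sᶜ ≠ univ := by rw [Ne, compl_eq_univ_iff]; exact n1.ne_empty
    have a1 := (stable_iff_margin φ₁ m Tᶜ).1 hst S n1 n2
    have a2 := (stable_iff_margin φ₁ m Tᶜ).1 hst Sᶜ n3 n4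
    have hsum := margin_compl (ends := ends) φ₁ m Tᶜ (by rw [h₁, hm]) S
    rw [hone] at hsum
    have a3 := (semistable_iff_margin φ₂ m Tᶜ).1 (h m Tᶜ hm hst) S n1 n2
    rw [hell] at a1 a3 hsum
    simp only [ell] at hd a1 a3 hsum ⊢
    have hlt : ((degOn ends m Tᶜ S : ℤ) : ℝ) < ((d + 1 : ℤ) : ℝ) := by push_cast; linarith
    have hle : degOn ends m Tᶜ S ≤ d := by have := Int.cast_lt.1 hlt; omega
    have : ((degOn ends m Tᶜ S : ℤ) : ℝ) ≤ (d : ℝ) := Int.cast_le.2 hle
    linarith
  · intro h m N hm hst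
    rw [semistable_iff_margin]
    refine margin_induction hc φ₂ m N (by rw [h₂, hm]) (fun x => 0 ≤ x) (fun a b => add_nonneg) fun S hS => ?_
    rw [hell]
    refine h S hS _ ?_
    rw [← hell]
    exact (stable_iff_margin φ₁ m N).1 hst S (elementary_nonempty hS).1 (elementary_nonempty hS).2

end Groth.Agent.PhiStabLib
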